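import Cfsg.Agent.Co3Out.Pairs
import Cfsg.Agent.Co3Out.Gens

/-!
The codes of the lattice generators.
-/

set_option autoImplicit false
set_option maxRecDepth 100000
set_option maxHeartbeats 0

namespace Cfsg.Agent.Co3Out

open Cfsg Cfsg.Agent.Compute Cfsg.Agent.StemCert Cfsg.Agent.LeechModel

theorem base_checks :
    pairGenB (frameOf Data.pts) McL.Model.a0.f (Data.baseCodes.getD 0 0) = true ∧
    pairGenB (frameOf Data.pts) McL.Model.a1.f (Data.baseCodes.getD 1 0) = true ∧
    pairGenB (frameOf Data.pts) McL.Model.a2.f (Data.baseCodes.getD 2 0) = true ∧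
    pairGenB (frameOf Data.pts) McL.Model.a3.f (Data.baseCodes.getD 3 0) = true ∧
    pairGenB (frameOf Data.pts) HigSims.Model.a3.f (Data.baseCodes.getD 4 0) = true := by
  refine ⟨?_, ?_, ?_, ?_, ?_⟩ <;> decide +kernel

end Cfsg.Agent.Co3Out
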