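import Cfsg.Agent.Co3Out.TableData
import Cfsg.Agent.Co3Out.Data

/-! Checks of the table. -/

set_option autoImplicit false
set_option maxRecDepth 100000
set_option maxHeartbeats 0

namespace Cfsg.Agent.Co3Out

open Cfsg.Agent.OutTab

theorem least8 : rangeB (Data.table.minAt 23 9 Data.powers Data.mainBase) 3720 4185 = true := by decide +kernel

theorem least9 : rangeB (Data.table.minAt 23 9 Data.powers Data.mainBase) 4185 4650 = true := by decide +kernel

theorem least10 : rangeB (Data.table.minAt 23 9 Data.powers Data.mainBase) 4650 5115 = true := by decide +kernel

theorem least11 : rangeB (Data.table.minAt 23 9 Data.powers Data.mainBase) 5115 5580 = true := by decide +kernel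

theorem least12 : rangeB (Data.table.minAt 23 9 Data.powers Data.mainBase) 5580 6045 = true := by decide +kernel

theorem least13 : rangeB (Data.table.minAt 23 9 Data.powers Data.mainBase) 6045 6510 = true := by decide +kernel

theorem least14 : rangeB (Data.table.minAt 23 9 Data.powers Data.mainBase) 6510 6975 = true := by decide +kernel

theorem least15 : rangeB (Data.table.minAt 23 9 Data.powers Data.mainBase) 6975 7425 = true := by decide +kernel

end Cfsg.Agent.Co3Out
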