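import Cfsg.Agent.Co3Out.LeastA
import Cfsg.Agent.Co3Out.LeastB

/-! Checks of the table, assembled. -/

set_option autoImplicit false
set_option maxRecDepth 100000
set_option maxHeartbeats 0

namespace Cfsg.Agent.Co3Out

open Cfsg.Agent.OutTab

theorem least_all : ∀ j < Data.table.size, (Data.table.minAt 23 9 Data.powers Data.mainBase) j = true := by
  refine of_ranges (len := 465) (cnt := 16) (by decide +kernel) fun c hc => ?_
  interval_cases c
  exacts [least0, least1, least2, least3, least4, least5, least6, least7, least8, least9, least10, least11, least12, least13, least14, least15]

end Cfsg.Agent.Co3Out
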