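import Cfsg.Agent.Co3Out.TableData
import Cfsg.Agent.Co3Out.Data

/-! Checks of the table. -/

set_option autoImplicit false
set_option maxRecDepth 100000
set_option maxHeartbeats 0

namespace Cfsg.Agent.Co3Out

open Cfsg.Agent.OutTab

theorem least0 : rangeB (Data.table.minAt 23 9 Data.powers Data.mainBase) 0 465 = true := by decide +kernel

theorem least1 : rangeB (Data.table.minAt 23 9 Data.powers Data.mainBase) 465 930 = true := by decide +kernel

theorem least2 : rangeB (Data.table.minAt 23 9 Data.powers Data.mainBase) 930 1395 = true := by decide +kernel

theorem least3 : rangeB (Data.table.minAt 23 9 Data.powers Data.mainBase) 1395 1860 = true := by decide +kernel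

theorem least4 : rangeB (Data.table.minAt 23 9 Data.powers Data.mainBase) 1860 2325 = true := by decide +kernel

theorem least5 : rangeB (Data.table.minAt 23 9 Data.powers Data.mainBase) 2325 2790 = true := by decide +kernel

theorem least6 : rangeB (Data.table.minAt 23 9 Data.powers Data.mainBase) 2790 3255 = true := by decide +kernel

theorem least7 : rangeB (Data.table.minAt 23 9 Data.powers Data.mainBase) 3255 3720 = true := by decide +kernel

end Cfsg.Agent.Co3Out
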