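import Cfsg.Agent.Co3Out.LinkA
import Cfsg.Agent.Co3Out.LinkB

/-! Checks of the table, assembled. -/

set_option autoImplicit false
set_option maxRecDepth 100000
set_option maxHeartbeats 0

namespace Cfsg.Agent.Co3Out

open Cfsg.Agent.OutTab

theorem link_all : ∀ j < Data.table.size, (Data.table.linkAt 276 9 Data.k Data.codes [1]) j = true := by
  refine of_ranges (len := 465) (cnt := 16) (by decide +kernel) fun c hc => ?_
  interval_cases c
  exacts [link0, link1, link2, link3, link4, link5, link6, link7, link8, link9, link10, link11, link12, link13, link14, link15]

end Cfsg.Agent.Co3Out
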