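import Cfsg.Agent.Co3Out.Pairs
import Cfsg.Agent.Co3Out.Gens

/-!
The listed points lie in the lattice.
-/

set_option autoImplicit false
set_option maxRecDepth 100000
set_option maxHeartbeats 0

namespace Cfsg.Agent.Co3Out

open Cfsg Cfsg.Agent.Compute Cfsg.Agent.StemCert Cfsg.Agent.LeechModel

theorem points_code : ∀ i : Fin (frameOf Data.pts).n,
    Leech.dec (Leech.red2 fun p => ((frameOf Data.pts).fn i p - (frameOf Data.pts).fn i none) / 2) =
      Leech.red2 fun p => ((frameOf Data.pts).fn i p - (frameOf Data.pts).fn i none) / 2 := by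
  decide +kernel

theorem points_parity : ∀ (i : Fin (frameOf Data.pts).n) (p : GolayPt),
    (frameOf Data.pts).fn i p = (frameOf Data.pts).fn i none +
      2 * (((frameOf Data.pts).fn i p - (frameOf Data.pts).fn i none) / 2) := by
  decide +kernel

theorem points_sums : ∀ i : Fin (frameOf Data.pts).n,
    (8 : ℤ) ∣ (∑ p, (frameOf Data.pts).fn i p) - 4 * (frameOf Data.pts).fn i none := by
  decide +kernel

end Cfsg.Agent.Co3Out
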