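import Cfsg.Agent.Co3Out.Pairs
import Cfsg.Agent.Co3Out.Gens
import Cfsg.Agent.Co3Out.PointsA

/-!
The listed points are the 552 vectors.
-/

set_option autoImplicit false
set_option maxRecDepth 100000
set_option maxHeartbeats 0

namespace Cfsg.Agent.Co3Out

open Cfsg Cfsg.Agent.Compute Cfsg.Agent.StemCert Cfsg.Agent.LeechModel

theorem good : (frameOf Data.pts).Good where
  parity := points_parity
  sums := points_sums
  code := points_code
  norm := by decide +kernel
  dotv := by decide +kernel
  dotw := by decide +kernel
  list := by decide +kernel
  packed := by decide +kernel
  length := by decide +kernel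
  nodup := by decide +kernel
  count := by rw [frameOf_X]; exact Leech.ncard_pts552

theorem paired : Paired (frameOf Data.pts) := by
  unfold Paired
  decide +kernel

end Cfsg.Agent.Co3Out
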