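import Cfsg.Agent.Co3Out.Pairs
import Cfsg.Agent.Co3Out.Gens
import Cfsg.Agent.Co3Out.PointsB
import Cfsg.Agent.Co3Out.GenChecks
import Cfsg.Agent.Co3Out.Data
import Cfsg.Agent.OutTab.Criterion
import Cfsg.Agent.OutTab.Slp
import Cfsg.Agent.StemCert.Count

/-!
The permutation model of the group on 276 pairs.
-/

set_option autoImplicit false
set_option maxRecDepth 100000
set_option maxHeartbeats 0

namespace Cfsg.Agent.Co3Out

open Cfsg Cfsg.Agent.Compute Cfsg.Agent.StemCert Cfsg.Agent.LeechModel

theorem equiv_stab : Nonempty (↥Spor.Co3 ≃* ↥Leech.stabV3) := by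
  have e : Spor.Co3.subgroupOf Co0 = Leech.stabV3 := by
    ext g
    simp only [Subgroup.mem_subgroupOf, Spor.Co3, Subgroup.mem_inf, Leech.stabV3,
      MulAction.mem_stabilizer_iff]
    exact ⟨fun h => h.2, fun h => ⟨g.2, h⟩⟩
  exact ⟨(Subgroup.subgroupOfEquivOfLe le_co0).symm.trans (MulEquiv.subgroupCongr e)⟩

theorem card_co3 : Nat.card ↥Spor.Co3 = 495766656000 :=
  (Nat.card_congr equiv_stab.some.toEquiv).trans Leech.simple_co3.2

instance : IsSimpleGroup ↥Spor.Co3 :=
  haveI := Leech.simple_co3.1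
  MulEquiv.isSimpleGroup equiv_stab.some

instance : Finite ↥Spor.Co3 := Nat.finite_of_card_ne_zero (by rw [card_co3]; norm_num)

/-- The representation on the pairs. -/
noncomputable def ι : ↥Spor.Co3 →* Equiv.Perm (Fin 276) := pairRep good paired

theorem gens_fix : ∀ a ∈ Data.gensL,
    a.f (Leech.toL (Spor.leechV : GolayPt → ℤ)) = Leech.toL (Spor.leechV : GolayPt → ℤ) := by
  intro a ha
  simp only [Data.gensL, List.mem_cons, List.not_mem_nil, or_false] at ha
  rcases ha with rfl | rfl | rfl | rfl | rfl <;> decide +kernel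

theorem gens_mem {a : Leech.LGen} (ha : a ∈ Data.gensL) :
    (a.g : Equiv.Perm leechLattice) ∈ Spor.Co3 :=
  ⟨a.g.2, fix_of_toL a _ (gens_fix a ha)⟩

/-- The lattice generators as elements of the group. -/
noncomputable def baseGen (s : ℕ) : ↥Spor.Co3 :=
  if hs : s < Data.gensL.length then ⟨_, gens_mem (List.getElem_mem hs)⟩ else 1

theorem coded_base : Coded (w := 9) (k := 5) ι baseGen Data.baseCodes := by
  intro s hs x
  obtain ⟨c0, c1, c2, c3, c4⟩ := base_checks
  have hs' : s < Data.gensL.length := hs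
  rw [baseGen, dif_pos hs']
  interval_cases s
  exacts [pairRep_gen good paired McL.Model.a0 _ c0 x, pairRep_gen good paired McL.Model.a1 _ c1 x,
    pairRep_gen good paired McL.Model.a2 _ c2 x, pairRep_gen good paired McL.Model.a3 _ c3 x,
    pairRep_gen good paired HigSims.Model.a3 _ c4 x]

theorem pair_ok : wordsB 276 9 5 Data.baseCodes Data.pairWords Data.codes 2 = true := by
  decide +kernel

theorem slp_ok : OutTab.slpB 276 9 Data.k Data.codes Data.progs = true := by decide +kernel

/-- The two generators. -/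
noncomputable def pairGen (s : ℕ) : ↥Spor.Co3 := evalW baseGen (Data.pairWords.getD s [])

theorem coded_pair : Coded (w := 9) (k := 2) ι pairGen Data.codes :=
  coded_of_wordsB coded_base pair_ok

theorem gen_exists : ∃ g : ℕ → ↥Spor.Co3, Coded (w := 9) (k := Data.k) ι g Data.codes ∧
    g 0 = pairGen 0 ∧ g 1 = pairGen 1 ∧
    ∀ s, g s ∈ Submonoid.closure ({pairGen 0, pairGen 1} : Set ↥Spor.Co3) :=
  OutTab.exists_slp coded_pair slp_ok

/-- The generators. -/
noncomputable def gen : ℕ → ↥Spor.Co3 := gen_exists.choose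

theorem coded : Coded (w := 9) (k := Data.k) ι gen Data.codes := gen_exists.choose_spec.1

theorem gen_closure (s : ℕ) : gen s ∈ Submonoid.closure ({gen 0, gen 1} : Set ↥Spor.Co3) := by
  obtain ⟨-, h0, h1, hm⟩ := gen_exists.choose_spec
  rw [show gen 0 = pairGen 0 from h0, show gen 1 = pairGen 1 from h1]
  exact hm s

theorem ι_injective : Function.Injective ι := by
  refine (MonoidHom.ker_eq_bot_iff ι).mp ((ι.normal_ker.eq_bot_or_eq_top).resolve_right fun e => ?_)
  have hmem : gen 0 ∈ ι.ker := e ▸ Subgroup.mem_top _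
  have h0 := coded 0 (by decide +kernel) ⟨0, by norm_num⟩
  rw [show ι (gen 0) = 1 from hmem] at h0
  have h1 : getField 9 (Data.codes.getD 0 0) 0 ≠ 0 := by decide +kernel
  exact h1 h0.symm

theorem levels_ok : wfB Data.mainLevels = true ∧ gensBelow Data.k Data.mainLevels = true ∧
    distinctB 9 Data.codes Data.mainLevels Data.mainBase = true ∧
    numForms Data.mainLevels = 495766656000 ∧ (∀ b ∈ Data.mainBase, b < 276) := by
  refine ⟨?_, ?_, ?_, ?_, ?_⟩ <;> decide +kernel

theorem base_isBase : IsBase ι Data.mainBase :=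
  isBase_of_card coded levels_ok.1 levels_ok.2.1 levels_ok.2.2.2.2 levels_ok.2.2.1
    (levels_ok.2.2.2.1.trans card_co3.symm)

theorem generated : Subgroup.closure ({gen 0, gen 1} : Set ↥Spor.Co3) = ⊤ :=
  OutTab.closure_pair_top gen_closure
    (generates_of_card coded levels_ok.1 levels_ok.2.1 levels_ok.2.2.2.2 levels_ok.2.2.1
      (levels_ok.2.2.2.1.trans card_co3.symm))

end Cfsg.Agent.Co3Out
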