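import Cfsg.Agent.Co3Out.RefuteA

/-! Checks of the table, assembled. -/

set_option autoImplicit false
set_option maxRecDepth 100000
set_option maxHeartbeats 0

namespace Cfsg.Agent.Co3Out

open Cfsg.Agent.OutTab

theorem refute_all : ∀ j < Data.table.size, (Data.table.refuteAt 23 276 9 Data.powers Data.conds) j = true := by
  refine of_ranges (len := 465) (cnt := 16) (by decide +kernel) fun c hc => ?_
  interval_cases c
  exacts [refute0, refute1, refute2, refute3, refute4, refute5, refute6, refute7, refute8, refute9, refute10, refute11, refute12, refute13, refute14, refute15]

end Cfsg.Agent.Co3Out
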