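import Cfsg.Agent.Co3Out.SortedA

/-! Checks of the table, assembled. -/

set_option autoImplicit false
set_option maxRecDepth 100000
set_option maxHeartbeats 0

namespace Cfsg.Agent.Co3Out

open Cfsg.Agent.OutTab

theorem sorted_all : ∀ j < Data.table.size, (Data.table.sortAt 23 9 Data.powers Data.mainBase) j = true := by
  refine of_ranges (len := 465) (cnt := 16) (by decide +kernel) fun c hc => ?_
  interval_cases c
  exacts [sorted0, sorted1, sorted2, sorted3, sorted4, sorted5, sorted6, sorted7, sorted8, sorted9, sorted10, sorted11, sorted12, sorted13, sorted14, sorted15]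

end Cfsg.Agent.Co3Out
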