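import Cfsg.Agent.Co3Out.Model
import Cfsg.Agent.Co3Out.SylData
import Cfsg.Agent.Co3Out.TableData
import Cfsg.Agent.Co3Out.Link
import Cfsg.Agent.Co3Out.Least
import Cfsg.Agent.Co3Out.Sorted
import Cfsg.Agent.Co3Out.Refute
import Cfsg.Agent.LeechModel.Involutions

/-!
All automorphisms are inner.
-/

set_option autoImplicit false
set_option maxRecDepth 100000
set_option maxHeartbeats 0

namespace Cfsg.Agent.Co3Out

open Cfsg Cfsg.Agent.Compute Cfsg.Agent.StemCert Cfsg.Agent.LeechModel
open Cfsg.Agent.OutTab (PowCodes condCodes condWord)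

/-- The involution. -/
noncomputable def tInv : ↥Spor.Co3 := evalW gen [1]

/-- The other involution. -/
noncomputable def zInv : ↥Spor.Co3 := evalW gen [Data.zLetter]

theorem tInv_eq : tInv = gen 1 := by simp [tInv, evalW]

theorem cent_ok : commB 9 Data.k Data.codes Data.mainBase [1] Data.centWs = true ∧
    wordsB 276 9 Data.k Data.codes Data.centWs Data.centCodes Data.centWs.length = true ∧
    wfB Data.centLevels = true ∧ gensBelow Data.centWs.length Data.centLevels = true ∧
    distinctB 9 Data.centCodes Data.centLevels Data.centBase = true ∧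
    numForms Data.centLevels = 2903040 ∧ (∀ b ∈ Data.centBase, b < 276) := by
  refine ⟨?_, ?_, ?_, ?_, ?_, ?_, ?_⟩ <;> decide +kernel

theorem powers_ok : eqOn 9 Data.codes Data.mainBase (List.replicate 23 0) [] = true ∧
    eqOn 9 Data.codes Data.mainBase [0] [] = false ∧
    allBelow 23 (fun m => allBelow 276 fun p => Nat.beq (getField 9 (Data.powers.getD m 0) p)
      (appW 9 Data.codes (List.replicate m 0) p)) = true := by
  refine ⟨?_, ?_, ?_⟩ <;> decide +kernel

theorem k_pos : 1 < Data.k := by decide +kernel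

theorem pow_codes : PowCodes 23 276 9 ι (gen 0) Data.powers :=
  OutTab.powCodes_of_check coded base_isBase 0 (Nat.zero_lt_of_lt k_pos) powers_ok.1 powers_ok.2.2

theorem class_and_card :
    (∀ g, IsConj tInv g → ∃ j < Data.table.size, ∃ (m : ℕ) (r : ↥Spor.Co3),
      m < 23 ∧ HasCode ι 9 r (Data.table.rep j) ∧ g = gen 0 ^ m * r * (gen 0 ^ m)⁻¹) ∧
      Nat.card (Subgroup.centralizer ({tInv} : Set ↥Spor.Co3)) = 2903040 := by
  obtain ⟨h1, h2, h4, h5, h6, h7, hlt⟩ := cent_ok
  exact OutTab.Tab.class_eq coded (fun s hs => by rw [List.mem_singleton.mp hs]; exact k_pos)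
    link_all pow_codes (by norm_num) base_isBase.1 least_all sorted_all
    (by rw [← h7]; exact le_card_centralizer coded base_isBase h1 rfl h2 h4 h5 hlt h6)
    (by rw [card_co3, show Data.table.size = 7425 from rfl])

theorem syl_ok : (lettersB Data.k Data.sylEls = true ∧ lettersB Data.k Data.sylGens = true ∧
    lettersB Data.k [[1], [Data.zLetter]] = true ∧
    lettersB Data.k (Data.sylKinds.map Prod.snd) = true) ∧
    Data.sylEls.length = 2 ^ 10 ∧ Data.sylEls.getD 0 [] = [] ∧
    (Data.sylEls.map (wordKey 9 Data.codes Data.mainBase)).Nodup ∧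
    allBelow 1024 (syl2B 9 Data.codes Data.mainBase Data.sylEls Data.sylGens Data.sylNext
      Data.sylTree Data.sylKinds [[1], [Data.zLetter]]) = true := by
  refine ⟨⟨?_, ?_, ?_, ?_⟩, ?_, ?_, ?_, ?_⟩ <;> decide +kernel

theorem factorization_two : (Nat.card ↥Spor.Co3).factorization 2 = 10 := by
  rw [card_co3, show (495766656000 : ℕ) = 2 ^ 10 * 484147125 by norm_num,
    Nat.factorization_mul (by norm_num) (by norm_num), Finsupp.add_apply,
    Nat.Prime.factorization_pow Nat.prime_two, Finsupp.single_eq_same,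
    Nat.factorization_eq_zero_of_not_dvd (by norm_num)]

theorem small_words : eqOn 9 Data.codes Data.mainBase [1, 1] [] = true ∧
    eqOn 9 Data.codes Data.mainBase [Data.hLetter, 0] [0, 0, Data.hLetter] = true ∧
    eqOn 9 Data.codes Data.mainBase [Data.zLetter, Data.elevenLetter]
      [Data.elevenLetter, Data.zLetter] = true ∧
    eqOn 9 Data.codes Data.mainBase (List.replicate 11 Data.elevenLetter) [] = true ∧
    eqOn 9 Data.codes Data.mainBase [Data.elevenLetter] [] = false ∧
    Data.hLetter < Data.k ∧ Data.zLetter < Data.k ∧ Data.elevenLetter < Data.k ∧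
    eqOn 9 Data.codes Data.mainBase [1] [] = false := by
  refine ⟨?_, ?_, ?_, ?_, ?_, ?_, ?_, ?_, ?_⟩ <;> decide +kernel

theorem gen_ne_one {s : ℕ} (hs : s < Data.k)
    (h : eqOn 9 Data.codes Data.mainBase [s] [] = false) : gen s ≠ 1 := fun e => by
  have : eqOn 9 Data.codes Data.mainBase [s] [] = true := by
    refine LeechModel.allB_of_forall fun b hb => ?_
    rw [Nat.beq_eq, ← appW_spec coded [s] (by simp [hs]) ⟨b, base_isBase.1 b hb⟩,
      show evalW gen [s] = gen s by simp [evalW], e, map_one]
    rfl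
  rw [h] at this
  exact Bool.noConfusion this

theorem orderOf_gen_zero : orderOf (gen 0) = 23 := by
  have := Fact.mk (show Nat.Prime 23 by norm_num)
  exact orderOf_eq_prime pow_codes.1 (gen_ne_one (Nat.zero_lt_of_lt k_pos) powers_ok.2.1)

theorem orderOf_tInv : orderOf tInv = 2 := by
  have := Fact.mk Nat.prime_two
  rw [tInv_eq]
  refine orderOf_eq_prime ?_ (gen_ne_one k_pos small_words.2.2.2.2.2.2.2.2)
  have := eq_of_eqOn coded base_isBase (a := [1, 1]) (b := [])
    (by simp [k_pos]) (by simp) small_words.1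
  simpa [evalW, sq] using this

/-- The class of the involution is stable under automorphisms. -/
theorem same_class (φ : MulAut ↥Spor.Co3) : IsConj tInv (φ tInv) := by
  obtain ⟨hl, hlen, h0, hnd, hall⟩ := syl_ok
  obtain ⟨u, hu, hc⟩ := involution_cases coded base_isBase factorization_two hl hlen h0 hnd
    (fun i hi => allBelow_eq_true.mp hall i (by rw [hlen] at hi; exact hi)) (φ tInv)
    (by rw [MulEquiv.orderOf_eq, orderOf_tInv])
  simp only [List.mem_cons, List.not_mem_nil, or_false] at hu
  rcases hu with rfl | rfl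
  · exact hc
  exfalso
  obtain ⟨-, -, hcomm, hpow, hne, -, hz, h11, -⟩ := small_words
  have e1 := eq_of_eqOn coded base_isBase (a := [Data.zLetter, Data.elevenLetter])
    (b := [Data.elevenLetter, Data.zLetter]) (by simp [hz, h11]) (by simp [hz, h11]) hcomm
  have e2 := eq_of_eqOn coded base_isBase (a := List.replicate 11 Data.elevenLetter) (b := [])
    (fun s hs => (List.eq_of_mem_replicate hs) ▸ h11) (by simp) hpow
  rw [evalW_replicate] at e2
  simp only [evalW, List.map_cons, List.map_nil, List.prod_cons, List.prod_nil, mul_one] at e1 hc e2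
  obtain ⟨c, hcz⟩ := isConj_iff.mp hc
  have := Fact.mk (show Nat.Prime 11 by norm_num)
  have he : orderOf (gen Data.elevenLetter) = 11 := orderOf_eq_prime e2 (gen_ne_one h11 hne)
  set y : ↥Spor.Co3 := φ.symm (c * gen Data.elevenLetter * c⁻¹) with hy
  have hy11 : orderOf y = 11 := by
    rw [hy, MulEquiv.orderOf_eq,
      show c * gen Data.elevenLetter * c⁻¹ = MulAut.conj c (gen Data.elevenLetter) from rfl,
      MulEquiv.orderOf_eq, he]
  have hmem : y ∈ Subgroup.centralizer ({tInv} : Set ↥Spor.Co3) := by
    rw [Subgroup.mem_centralizer_singleton_iff]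
    apply φ.injective
    rw [map_mul, map_mul, hy, MulEquiv.apply_symm_apply, ← hcz]
    calc c * gen Data.elevenLetter * c⁻¹ * (c * gen Data.zLetter * c⁻¹)
        = c * (gen Data.elevenLetter * gen Data.zLetter) * c⁻¹ := by group
      _ = c * (gen Data.zLetter * gen Data.elevenLetter) * c⁻¹ := by rw [e1]
      _ = _ := by group
  have hdvd := Subgroup.orderOf_dvd_natCard _ hmem
  rw [hy11, class_and_card.2] at hdvd
  norm_num at hdvd

theorem conds_ok : (∀ c ∈ Data.conds, ∀ a ∈ c.1, a < 23) ∧
    allB (fun c => eqOn 9 (condCodes 23 Data.powers 1 (Data.table.rep 0)) Data.mainBase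
      (condWord 23 c) []) Data.conds = true := by
  refine ⟨?_, ?_⟩ <;> decide +kernel

theorem tInv_code : HasCode ι 9 tInv (Data.table.rep 0) :=
  OutTab.code_zero coded (by simp [k_pos]) (link_all 0 (by decide +kernel))

theorem card_out : Nat.card (Cfsg.Out ↥Spor.Co3) = 1 := by
  have hh : gen Data.hLetter * gen 0 * (gen Data.hLetter)⁻¹ = gen 0 ^ 2 := by
    have h := eq_of_eqOn coded base_isBase (a := [Data.hLetter, 0]) (b := [0, 0, Data.hLetter])
      (by simp [small_words.2.2.2.2.2.1, Nat.zero_lt_of_lt k_pos])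
      (by simp [small_words.2.2.2.2.2.1, Nat.zero_lt_of_lt k_pos]) small_words.2.1
    simp only [evalW, List.map_cons, List.map_nil, List.prod_cons, List.prod_nil, mul_one] at h
    rw [mul_inv_eq_iff_eq_mul, h, sq, mul_assoc]
  refine OutTab.card_out_of_table pow_codes (by norm_num) orderOf_gen_zero
    (by rw [card_co3]; norm_num) hh (by decide +kernel) ι_injective
    (by rw [tInv_eq]; exact generated) same_class class_and_card.1 tInv_code conds_ok.1 ?_ refute_all
  intro c hc
  have hfam := OutTab.cond_coded (e := 1) pow_codes (by norm_num) tInv_code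
  have := eq_of_eqOn hfam base_isBase (b := []) (OutTab.condWord_lt (conds_ok.1 c hc)) (by simp)
    (allB_spec conds_ok.2 c hc)
  simp only [one_mul] at this
  exact this.trans rfl

end Cfsg.Agent.Co3Out
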