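import Cfsg.Agent.Leech.Co3
import Cfsg.Agent.LeechModel.Basic

/-!
The group of the definitions acting on pairs among its 552 vectors.
-/

set_option autoImplicit false

namespace Cfsg.Agent.Co3Out

open Cfsg Cfsg.Agent.Compute Cfsg.Agent.LeechModel

/-- The frame on the 552 vectors, given by a list. -/
noncomputable def frameOf (pts : List ℕ) : Frame := ⟨Spor.leechV, Spor.leechV, 24, 552, pts⟩

theorem le_co0 : Spor.Co3 ≤ Co0 := inf_le_left

theorem acts (pts : List ℕ) : (frameOf pts).Acts Spor.Co3 where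
  le := le_co0
  fixv _ hg := (Subgroup.mem_inf.mp hg).2
  fixw _ hg := (Subgroup.mem_inf.mp hg).2

theorem frameOf_X (pts : List ℕ) : (frameOf pts).X = Leech.pts552 := by
  ext x
  exact ⟨fun h => ⟨h.1, h.2.1⟩, fun h => ⟨h.1, h.2, h.2⟩⟩

/-- Consecutive points are paired by the flip. -/
def Paired (M : Frame) : Prop := ∀ (i : Fin 276) (p : GolayPt),
  M.fn (2 * (i : ℕ)) p + M.fn (2 * (i : ℕ) + 1) p = (Spor.leechV : GolayPt → ℤ) p

variable {pts : List ℕ} (h : (frameOf pts).Good) (hp : Paired (frameOf pts))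

theorem pos552 : 0 < (frameOf pts).n := Nat.succ_pos _

/-- The first point of a pair. -/
def fstPt (i : Fin 276) : Fin (frameOf pts).n := ⟨2 * (i : ℕ), by show 2 * (i : ℕ) < 552; omega⟩

/-- The second point of a pair. -/
def sndPt (i : Fin 276) : Fin (frameOf pts).n :=
  ⟨2 * (i : ℕ) + 1, by show 2 * (i : ℕ) + 1 < 552; omega⟩

/-- The pair of a point. -/
def pairOf (a : Fin (frameOf pts).n) : Fin 276 :=
  ⟨(a : ℕ) / 2, by have : (a : ℕ) < 552 := a.2; omega⟩

/-- The partner of a point. -/
def flipPt (a : Fin (frameOf pts).n) : Fin (frameOf pts).n :=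
  if (a : ℕ) % 2 = 0 then sndPt (pairOf a) else fstPt (pairOf a)

theorem pairOf_flipPt (a : Fin (frameOf pts).n) : pairOf (flipPt a) = pairOf a := by
  unfold flipPt
  split_ifs <;> refine Fin.ext ?_ <;> simp [pairOf, fstPt, sndPt] <;> omega

theorem eq_or_flip {a b : Fin (frameOf pts).n} (e : pairOf a = pairOf b) : a = b ∨ a = flipPt b := by
  have e' : (a : ℕ) / 2 = (b : ℕ) / 2 := congrArg Fin.val e
  rcases Nat.mod_two_eq_zero_or_one (a : ℕ) with ha | ha <;>
    rcases Nat.mod_two_eq_zero_or_one (b : ℕ) with hb | hb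
  · exact Or.inl (Fin.ext (by omega))
  · exact Or.inr (Fin.ext (by simp [flipPt, hb, fstPt, pairOf]; omega))
  · exact Or.inr (Fin.ext (by simp [flipPt, hb, sndPt, pairOf]; omega))
  · exact Or.inl (Fin.ext (by omega))

include hp in
theorem point_flipPt (a : Fin (frameOf pts).n) :
    (h.point (flipPt a) : leechLattice) = Spor.leechV - (h.point a : leechLattice) := by
  refine Subtype.ext (funext fun p => ?_)
  rw [AddSubgroup.coe_sub, Pi.sub_apply]
  show (frameOf pts).fn (flipPt a : ℕ) p = (Spor.leechV : GolayPt → ℤ) p - (frameOf pts).fn (a : ℕ) p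
  have e := hp (pairOf a) p
  rcases Nat.mod_two_eq_zero_or_one (a : ℕ) with ha | ha
  · rw [show (flipPt a : ℕ) = 2 * ((pairOf a : Fin 276) : ℕ) + 1 by simp [flipPt, ha, sndPt],
      show (a : ℕ) = 2 * ((pairOf a : Fin 276) : ℕ) by simp [pairOf]; omega, ← e]
    ring
  · rw [show (flipPt a : ℕ) = 2 * ((pairOf a : Fin 276) : ℕ) by simp [flipPt, ha, fstPt],
      show (a : ℕ) = 2 * ((pairOf a : Fin 276) : ℕ) + 1 by simp [pairOf]; omega, ← e]
    ring

/-- The representation on the points. -/
noncomputable def rep552 : ↥Spor.Co3 →* Equiv.Perm (Fin (frameOf pts).n) :=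
  (acts pts).rep h pos552

include hp in
theorem rep552_flipPt (g : ↥Spor.Co3) (a : Fin (frameOf pts).n) :
    rep552 h g (flipPt a) = flipPt (rep552 h g a) := by
  refine h.point_injective (Subtype.ext ?_)
  rw [point_flipPt h hp, rep552, (acts pts).point_rep h, (acts pts).point_rep h, point_flipPt h hp]
  have hv : (g : Equiv.Perm leechLattice) Spor.leechV = Spor.leechV := (acts pts).fixv _ g.2
  have hadd := ((le_co0 g.2).1 (Spor.leechV - (h.point a : leechLattice)) (h.point a : leechLattice))
  rw [sub_add_cancel, hv] at hadd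
  exact eq_sub_of_add_eq hadd.symm

include hp in
theorem pair_congr (g : ↥Spor.Co3) {a b : Fin (frameOf pts).n} (e : pairOf a = pairOf b) :
    pairOf (rep552 h g a) = pairOf (rep552 h g b) := by
  rcases eq_or_flip e with rfl | rfl
  · rfl
  · rw [rep552_flipPt h hp, pairOf_flipPt]

theorem pairOf_fstPt (i : Fin 276) : pairOf (fstPt (pts := pts) i) = i :=
  Fin.ext (by simp [pairOf, fstPt])

/-- The image of a pair. -/
noncomputable def pairFun (g : ↥Spor.Co3) (i : Fin 276) : Fin 276 :=
  pairOf (rep552 h g (fstPt i))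

include hp in
theorem pairFun_mul (g g' : ↥Spor.Co3) (i : Fin 276) :
    pairFun h (g * g') i = pairFun h g (pairFun h g' i) := by
  unfold pairFun
  rw [map_mul, Equiv.Perm.mul_apply]
  exact pair_congr h hp g (pairOf_fstPt _).symm

theorem pairFun_one (i : Fin 276) : pairFun h 1 i = i := by
  unfold pairFun
  rw [map_one, Equiv.Perm.one_apply, pairOf_fstPt]

/-- The representation on the pairs. -/
noncomputable def pairRep : ↥Spor.Co3 →* Equiv.Perm (Fin 276) where
  toFun g :=
    { toFun := pairFun h g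
      invFun := pairFun h g⁻¹
      left_inv := fun i => by rw [← pairFun_mul h hp, inv_mul_cancel, pairFun_one]
      right_inv := fun i => by rw [← pairFun_mul h hp, mul_inv_cancel, pairFun_one] }
  map_one' := Equiv.ext fun i => pairFun_one h i
  map_mul' g g' := Equiv.ext fun i => pairFun_mul h hp g g' i

/-- A code describes a listed lattice automorphism on the pairs. -/
noncomputable def pairGenB (M : Frame) (f : List ℤ → List ℤ) (c : ℕ) : Bool :=
  allBelow 276 fun i => Nat.blt (getField 9 c i) 276 &&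
    (decide (f (M.crd (2 * i)) = M.crd (2 * getField 9 c i)) ||
      decide (f (M.crd (2 * i)) = M.crd (2 * getField 9 c i + 1)))

theorem pairRep_gen (a : Leech.LGen) (hmem : (a.g : Equiv.Perm leechLattice) ∈ Spor.Co3) {c : ℕ}
    (hc : pairGenB (frameOf pts) a.f c = true) (i : Fin 276) :
    (pairRep h hp ⟨_, hmem⟩ i : ℕ) = getField 9 c i := by
  have hi := allBelow_eq_true.mp hc i i.2
  simp only [Bool.and_eq_true, Nat.blt_eq, Bool.or_eq_true, decide_eq_true_eq] at hi
  obtain ⟨hlt, hi⟩ := hi
  have key : ∀ b : Fin (frameOf pts).n, a.f ((frameOf pts).crd (2 * (i : ℕ))) = (frameOf pts).crd b →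
      rep552 h ⟨_, hmem⟩ (fstPt i) = b := fun b e => by
    refine h.point_injective (Subtype.ext (Subtype.ext (Leech.toL_injective ?_)))
    rw [rep552, (acts pts).point_rep h, h.toL_point b]
    show Leech.toL (((a.g • (h.point (fstPt i) : leechLattice)) : leechLattice) : GolayPt → ℤ) = _
    rw [a.spec, h.toL_point]
    exact e
  show (pairOf (rep552 h ⟨_, hmem⟩ (fstPt i)) : ℕ) = _
  rcases hi with hi | hi
  · rw [key (fstPt ⟨_, hlt⟩) hi]; simp [pairOf, fstPt]
  · rw [key (sndPt ⟨_, hlt⟩) hi]; simp [pairOf, sndPt]; omega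

end Cfsg.Agent.Co3Out
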