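import Cfsg.Agent.Co3Out.TableData
import Cfsg.Agent.Co3Out.Data

/-! Checks of the table. -/

set_option autoImplicit false
set_option maxRecDepth 100000
set_option maxHeartbeats 0

namespace Cfsg.Agent.Co3Out

open Cfsg.Agent.OutTab

theorem refute0 : rangeB (Data.table.refuteAt 23 276 9 Data.powers Data.conds) 0 465 = true := by decide +kernel

theorem refute1 : rangeB (Data.table.refuteAt 23 276 9 Data.powers Data.conds) 465 930 = true := by decide +kernel

theorem refute2 : rangeB (Data.table.refuteAt 23 276 9 Data.powers Data.conds) 930 1395 = true := by decide +kernel

theorem refute3 : rangeB (Data.table.refuteAt 23 276 9 Data.powers Data.conds) 1395 1860 = true := by decide +kernel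

theorem refute4 : rangeB (Data.table.refuteAt 23 276 9 Data.powers Data.conds) 1860 2325 = true := by decide +kernel

theorem refute5 : rangeB (Data.table.refuteAt 23 276 9 Data.powers Data.conds) 2325 2790 = true := by decide +kernel

theorem refute6 : rangeB (Data.table.refuteAt 23 276 9 Data.powers Data.conds) 2790 3255 = true := by decide +kernel

theorem refute7 : rangeB (Data.table.refuteAt 23 276 9 Data.powers Data.conds) 3255 3720 = true := by decide +kernel

theorem refute8 : rangeB (Data.table.refuteAt 23 276 9 Data.powers Data.conds) 3720 4185 = true := by decide +kernel

theorem refute9 : rangeB (Data.table.refuteAt 23 276 9 Data.powers Data.conds) 4185 4650 = true := by decide +kernel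

theorem refute10 : rangeB (Data.table.refuteAt 23 276 9 Data.powers Data.conds) 4650 5115 = true := by decide +kernel

theorem refute11 : rangeB (Data.table.refuteAt 23 276 9 Data.powers Data.conds) 5115 5580 = true := by decide +kernel

theorem refute12 : rangeB (Data.table.refuteAt 23 276 9 Data.powers Data.conds) 5580 6045 = true := by decide +kernel

theorem refute13 : rangeB (Data.table.refuteAt 23 276 9 Data.powers Data.conds) 6045 6510 = true := by decide +kernel

theorem refute14 : rangeB (Data.table.refuteAt 23 276 9 Data.powers Data.conds) 6510 6975 = true := by decide +kernel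

theorem refute15 : rangeB (Data.table.refuteAt 23 276 9 Data.powers Data.conds) 6975 7425 = true := by decide +kernel

end Cfsg.Agent.Co3Out
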